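import Mathlib
import Cfsg.Agent.ClassConj.Unitary

/-!
# Conjugacy of square-zero matrices and involutions of `SL` and `SU` in characteristic two
-/

set_option autoImplicit false
set_option linter.all false

open Matrix Module

namespace Cfsg.Agent.InvolConjTwo

variable {F : Type*} [Field F]

/-- A basis adapted to a square-zero map: `V ≃ range × range × rest`. -/
theorem exists_adapted {V : Type*} [AddCommGroup V] [Module F V] [FiniteDimensional F V]
    (N : V →ₗ[F] V) (h : ∀ v, N (N v) = 0) :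
    ∃ (k : ℕ) (e : ((Fin (finrank F (LinearMap.range N)) → F) ×
        (Fin (finrank F (LinearMap.range N)) → F) × (Fin k → F)) ≃ₗ[F] V),
      ∀ a b c, N (e (a, b, c)) = e (0, a, 0) := by
  let r := finBasis F (LinearMap.range N)
  have hw : ∀ i, ∃ w, N w = (r i : V) := fun i => LinearMap.mem_range.1 (r i).2
  choose w hw using hw
  have hle : LinearMap.range N ≤ LinearMap.ker N := by
    rintro _ ⟨v, rfl⟩; exact h v
  obtain ⟨Z, hZ⟩ := Submodule.exists_isCompl ((LinearMap.range N).comap (LinearMap.ker N).subtype)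
  let z := finBasis F Z
  let Φ : ((Fin (finrank F (LinearMap.range N)) → F) ×
      (Fin (finrank F (LinearMap.range N)) → F) × (Fin (finrank F Z) → F)) →ₗ[F] V :=
    (Fintype.linearCombination F w).coprod
      ((Fintype.linearCombination F fun i => (r i : V)).coprod
        (Fintype.linearCombination F fun i => ((z i : LinearMap.ker N) : V)))
  have hΦ : ∀ a b c, Φ (a, b, c) = (∑ i, a i • w i) +
      ((∑ i, b i • (r i : V)) + ∑ i, c i • ((z i : LinearMap.ker N) : V)) := by
    intro a b c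
    simp [Φ, Fintype.linearCombination_apply]
  have hN : ∀ a b c, N (Φ (a, b, c)) = ∑ i, a i • (r i : V) := by
    intro a b c
    rw [hΦ, map_add, map_add]
    have h1 : N (∑ i, b i • (r i : V)) = 0 := by
      rw [map_sum]; exact Finset.sum_eq_zero fun i _ => by
        rw [map_smul, LinearMap.mem_ker.1 (hle (r i).2), smul_zero]
    have h2 : N (∑ i, c i • ((z i : LinearMap.ker N) : V)) = 0 := by
      rw [map_sum]; exact Finset.sum_eq_zero fun i _ => by
        rw [map_smul, LinearMap.mem_ker.1 (z i : LinearMap.ker N).2, smul_zero]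
    rw [h1, h2, add_zero, add_zero, map_sum]
    exact Finset.sum_congr rfl fun i _ => by rw [map_smul, hw]
  have hr : ∀ a : Fin (finrank F (LinearMap.range N)) → F, ∑ i, a i • (r i : V) = 0 → a = 0 := by
    intro a ha
    funext i
    refine Fintype.linearIndependent_iff.1 r.linearIndependent a (Subtype.ext ?_) i
    simpa using ha
  have hinj : Function.Injective Φ := by
    rw [← LinearMap.ker_eq_bot, eq_bot_iff]
    rintro ⟨a, b, c⟩ hx
    rw [LinearMap.mem_ker] at hx
    have ha : a = 0 := hr a (by rw [← hN a b c, hx, map_zero])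
    subst ha
    rw [hΦ] at hx
    simp only [Pi.zero_apply, zero_smul, Finset.sum_const_zero, zero_add] at hx
    have hc0 : (∑ i, c i • z i : Z) = 0 := by
      apply Subtype.ext
      refine Submodule.disjoint_def.1 hZ.disjoint _ ?_ (Submodule.coe_mem _)
      rw [Submodule.mem_comap]
      have e : (LinearMap.ker N).subtype ((∑ i, c i • z i : Z) : LinearMap.ker N)
          = ∑ i, c i • ((z i : LinearMap.ker N) : V) := by simp
      rw [e, eq_neg_of_add_eq_zero_right hx]
      exact Submodule.neg_mem _ (Submodule.sum_mem _ fun i _ => Submodule.smul_mem _ _ (r i).2)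
    have hc : c = 0 := by
      funext i; exact Fintype.linearIndependent_iff.1 z.linearIndependent c hc0 i
    subst hc
    simp only [Pi.zero_apply, zero_smul, Finset.sum_const_zero, add_zero] at hx
    simp [hr b hx]
  have hdim : finrank F ((Fin (finrank F (LinearMap.range N)) → F) ×
      (Fin (finrank F (LinearMap.range N)) → F) × (Fin (finrank F Z) → F)) = finrank F V := by
    rw [finrank_prod, finrank_prod, finrank_fin_fun, finrank_fin_fun,
      ← LinearMap.finrank_range_add_finrank_ker N, ← Submodule.finrank_add_eq_of_isCompl hZ]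
    have e : finrank F ((LinearMap.range N).comap (LinearMap.ker N).subtype)
        = finrank F (LinearMap.range N) :=
      (Submodule.comapSubtypeEquivOfLe hle).finrank_eq
    rw [e]
  let e := LinearEquiv.ofBijective Φ
    ⟨hinj, ((LinearMap.injective_iff_surjective_of_finrank_eq_finrank hdim).1 hinj)⟩
  refine ⟨finrank F Z, e, fun a b c => ?_⟩
  show N (Φ (a, b, c)) = Φ (0, a, 0)
  rw [hN, hΦ]
  simp

/-- Square-zero maps of equal rank are conjugate. -/
theorem exists_conj_of_sq_zero {V : Type*} [AddCommGroup V] [Module F V] [FiniteDimensional F V]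
    (N N' : V →ₗ[F] V) (h : ∀ v, N (N v) = 0) (h' : ∀ v, N' (N' v) = 0)
    (hr : finrank F (LinearMap.range N) = finrank F (LinearMap.range N')) :
    ∃ g : V ≃ₗ[F] V, ∀ v, g (N v) = N' (g v) := by
  obtain ⟨k, e, he⟩ := exists_adapted N h
  obtain ⟨k', e', he'⟩ := exists_adapted N' h'
  have hk : k = k' := by
    have h1 := e.finrank_eq
    have h2 := e'.finrank_eq
    rw [finrank_prod, finrank_prod, finrank_fin_fun, finrank_fin_fun] at h1 h2
    omega
  subst hk
  let c := LinearEquiv.funCongrLeft F F (finCongr hr.symm)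
  refine ⟨e.symm.trans ((c.prodCongr (c.prodCongr (LinearEquiv.refl F _))).trans e'), fun v => ?_⟩
  obtain ⟨⟨a, b, d⟩, rfl⟩ := e.surjective v
  simp [he, he']

variable {n : ℕ}

theorem sq_zero_of_sq_eq_one [CharP F 2] {A : Matrix (Fin n) (Fin n) F} (h : A * A = 1) :
    (A - 1) * (A - 1) = 0 := by
  rw [mul_sub, sub_mul, one_mul, mul_one, h, ← sub_add, sub_right_comm (1 : Matrix (Fin n) (Fin n) F)]
  have h2 : ∀ x : Matrix (Fin n) (Fin n) F, x + x = 0 := fun x => by
    ext i j; exact CharTwo.add_self_eq_zero _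
  calc 1 - A - A + 1 = (1 + 1) - (A + A) := by abel
    _ = 0 := by rw [h2, h2, sub_zero]

/-- Square-zero matrices of equal rank are conjugate in `GL`. -/
theorem exists_GL_conj (M M' : Matrix (Fin n) (Fin n) F) (h : M * M = 0) (h' : M' * M' = 0)
    (hr : M.rank = M'.rank) :
    ∃ g : GL (Fin n) F, (g : Matrix (Fin n) (Fin n) F) * M = M' * (g : Matrix (Fin n) (Fin n) F) := by
  obtain ⟨g, hg⟩ := exists_conj_of_sq_zero M.mulVecLin M'.mulVecLin
    (fun v => by simp [mulVec_mulVec, h]) (fun v => by simp [mulVec_mulVec, h']) hr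
  have hG : ∀ v, LinearMap.toMatrix' g.toLinearMap *ᵥ v = g v := fun v =>
    LinearMap.toMatrix'_mulVec _ _
  refine ⟨⟨LinearMap.toMatrix' g.toLinearMap, LinearMap.toMatrix' g.symm.toLinearMap, ?_, ?_⟩, ?_⟩
  · rw [← LinearMap.toMatrix'_comp]; simp
  · rw [← LinearMap.toMatrix'_comp]; simp
  · show LinearMap.toMatrix' g.toLinearMap * M = M' * LinearMap.toMatrix' g.toLinearMap
    apply Matrix.toLin'.injective
    refine LinearMap.ext fun v => ?_
    simp only [Matrix.toLin'_apply, ← mulVec_mulVec, hG]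
    exact hg v

/-- Rank is invariant under conjugation. -/
theorem rank_eq_of_conj {g : GL (Fin n) F} {A B : Matrix (Fin n) (Fin n) F}
    (h : (g : Matrix (Fin n) (Fin n) F) * A = B * (g : Matrix (Fin n) (Fin n) F)) :
    A.rank = B.rank := by
  have hd : IsUnit (g : Matrix (Fin n) (Fin n) F).det := Matrix.isUnits_det_units g
  rw [← Matrix.rank_mul_eq_right_of_isUnit_det _ A hd, h,
    Matrix.rank_mul_eq_left_of_isUnit_det _ B hd]

theorem exists_row (M : Matrix (Fin n) (Fin n) F) (hM : M ≠ 0) :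
    ∃ w φ : Fin n → F, φ ⬝ᵥ (M *ᵥ w) = 1 := by
  obtain ⟨i, j, hij⟩ : ∃ i j, M i j ≠ 0 := by
    by_contra hc
    push Not at hc
    exact hM (Matrix.ext hc)
  exact ⟨Pi.single j 1, Pi.single i (M i j)⁻¹, by
    simp [Matrix.mulVec_single, single_dotProduct, inv_mul_cancel₀ hij]⟩

/-- A projection on the plane `⟨w, M w⟩` commuting with `M`. -/
theorem det_planeScalar (M : Matrix (Fin n) (Fin n) F) (h : M * M = 0) (w φ : Fin n → F)
    (hφ : φ ⬝ᵥ (M *ᵥ w) = 1) (μ : F) :
    let P : Matrix (Fin n) (Fin n) F := vecMulVec w (φ ᵥ* M) +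
      vecMulVec (M *ᵥ w) (φ - (φ ⬝ᵥ w) • (φ ᵥ* M))
    (1 + (μ - 1) • P) * M = M * (1 + (μ - 1) • P) ∧ (1 + (μ - 1) • P).det = μ ^ 2 := by
  intro P
  have h0 : (φ ᵥ* M) ⬝ᵥ w = 1 := by rw [← dotProduct_mulVec, hφ]
  have h1 : (φ ᵥ* M) ⬝ᵥ (M *ᵥ w) = 0 := by
    rw [← dotProduct_mulVec, mulVec_mulVec, h, zero_mulVec, dotProduct_zero]
  constructor
  · have hc : P * M = M * P := by
      simp only [P, add_mul, mul_add, vecMulVec_mul, mul_vecMulVec, mulVec_mulVec, h, zero_mulVec,
        zero_vecMulVec, vecMul_vecMul, sub_vecMul, smul_vecMul, vecMul_zero, vecMulVec_zero,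
        smul_zero, sub_zero, zero_add, add_zero]
    rw [add_mul, mul_add, one_mul, mul_one, Matrix.smul_mul, Matrix.mul_smul, hc]
  · let X : Matrix (Fin n) (Fin 2) F := Matrix.of fun i j => if j = 0 then w i else (M *ᵥ w) i
    let Y : Matrix (Fin 2) (Fin n) F := Matrix.of fun i j =>
      if i = 0 then (φ ᵥ* M) j else (φ - (φ ⬝ᵥ w) • (φ ᵥ* M)) j
    have hXY : P = X * Y := by
      ext i j
      simp [P, X, Y, Matrix.mul_apply, Fin.sum_univ_two, vecMulVec_apply]
    have hYX : Y * X = 1 := by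
      ext i j
      fin_cases i <;> fin_cases j <;> simp only [X, Y, Matrix.mul_apply, Matrix.of_apply,
        Matrix.one_apply]
      · simpa [dotProduct] using h0
      · simpa [dotProduct] using h1
      · show ∑ x, (φ - (φ ⬝ᵥ w) • (φ ᵥ* M)) x * w x = 0
        show (φ - (φ ⬝ᵥ w) • (φ ᵥ* M)) ⬝ᵥ w = 0
        rw [sub_dotProduct, smul_dotProduct, h0, smul_eq_mul, mul_one, sub_self]
      · show (φ - (φ ⬝ᵥ w) • (φ ᵥ* M)) ⬝ᵥ (M *ᵥ w) = 1
        rw [sub_dotProduct, smul_dotProduct, h1, hφ, smul_zero, sub_zero]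
    rw [hXY, ← Matrix.smul_mul, Matrix.det_one_add_mul_comm, Matrix.mul_smul, hYX,
      show (1 : Matrix (Fin 2) (Fin 2) F) + (μ - 1) • 1 = μ • (1 : Matrix (Fin 2) (Fin 2) F) by
        conv_lhs => arg 1; rw [← one_smul F (1 : Matrix (Fin 2) (Fin 2) F)]
        rw [← add_smul]
        congr 1
        ring,
      Matrix.det_smul, det_one, Fintype.card_fin, mul_one]

theorem exists_sqrt [Fintype F] [CharP F 2] (x : F) : ∃ y : F, y ^ 2 = x := by
  obtain ⟨y, hy⟩ := FiniteField.isSquare_of_char_two (ringChar.eq F 2) x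
  exact ⟨y, by rw [hy, sq]⟩

/-- Conjugate in `GL` commuting adjustments: conjugacy in `SL`. -/
theorem SL_conj_iff_rank [Fintype F] [CharP F 2] (a b : Matrix.SpecialLinearGroup (Fin n) F)
    (ha : orderOf a = 2) (hb : orderOf b = 2) :
    IsConj a b ↔ ((a : Matrix (Fin n) (Fin n) F) - 1).rank
      = ((b : Matrix (Fin n) (Fin n) F) - 1).rank := by
  constructor
  · intro h
    obtain ⟨c, hc⟩ := isConj_iff.1 h
    have hc' : (c : Matrix (Fin n) (Fin n) F) * (a : Matrix (Fin n) (Fin n) F)
        = (b : Matrix (Fin n) (Fin n) F) * (c : Matrix (Fin n) (Fin n) F) := by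
      exact congrArg Subtype.val (mul_inv_eq_iff_eq_mul.1 hc : c * a = b * c)
    refine rank_eq_of_conj (g := SpecialLinearGroup.toGL c) ?_
    show (c : Matrix (Fin n) (Fin n) F) * _ = _ * (c : Matrix (Fin n) (Fin n) F)
    rw [mul_sub, sub_mul, hc', one_mul, mul_one]
  · intro h
    have hsq : ∀ x : Matrix.SpecialLinearGroup (Fin n) F, orderOf x = 2 →
        (x : Matrix (Fin n) (Fin n) F) * (x : Matrix (Fin n) (Fin n) F) = 1 := by
      intro x hx
      have := pow_orderOf_eq_one x
      rw [hx, pow_two] at this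
      exact congrArg Subtype.val this
    have hM := sq_zero_of_sq_eq_one (hsq a ha)
    obtain ⟨g, hg⟩ := exists_GL_conj _ _ hM (sq_zero_of_sq_eq_one (hsq b hb)) h
    have hne : (a : Matrix (Fin n) (Fin n) F) - 1 ≠ 0 := by
      intro h0
      have : a = 1 := Subtype.ext (sub_eq_zero.1 h0)
      rw [this, orderOf_one] at ha
      omega
    obtain ⟨w, φ, hφ⟩ := exists_row _ hne
    have hd : (g : Matrix (Fin n) (Fin n) F).det ≠ 0 := (Matrix.isUnits_det_units g).ne_zero
    obtain ⟨μ, hμ⟩ := exists_sqrt ((g : Matrix (Fin n) (Fin n) F).det)⁻¹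
    obtain ⟨hc, hdet⟩ := det_planeScalar _ hM w φ hφ μ
    generalize (1 : Matrix (Fin n) (Fin n) F) + (μ - 1) • _ = c at hc hdet
    let k : Matrix.SpecialLinearGroup (Fin n) F :=
      ⟨(g : Matrix (Fin n) (Fin n) F) * c, by rw [det_mul, hdet, hμ, mul_inv_cancel₀ hd]⟩
    refine isConj_iff.2 ⟨k, mul_inv_eq_iff_eq_mul.2 (Subtype.ext ?_)⟩
    show (g : Matrix (Fin n) (Fin n) F) * c * (a : Matrix (Fin n) (Fin n) F)
      = (b : Matrix (Fin n) (Fin n) F) * ((g : Matrix (Fin n) (Fin n) F) * c)
    rw [mul_sub, sub_mul, mul_one, one_mul, sub_left_inj] at hc hg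
    rw [mul_assoc, hc, ← mul_assoc, hg, mul_assoc]

end Cfsg.Agent.InvolConjTwo
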